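import Groth.Agent.Lib.Devissage.Sky
import Groth.Agent.Lib.CurveBundle.Rank
import Groth.Agent.Lib.SmoothCurve.Curve
import Groth.Agent.Lib.RefHull.Reflexive
import Groth.Agent.Lib.RefHull.LocFree
import Groth.Agent.Lib.Cyc.CH.DualMap
import Groth.Agent.Lib.Cyc.TorPD
import Groth.Agent.Lib.CohBasics.Closure

/-!
# Modifying a coherent module at finitely many closed points
-/

set_option autoImplicit false
set_option linter.style.haveILetI false
universe u

open CategoryTheory CategoryTheory.Limits AlgebraicGeometry TopologicalSpace Opposite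

noncomputable section

namespace Groth.Agent.H84.TFCurve.Lattice

open Groth.Agent.Lib Modules.StalkModule

variable {X : Scheme.{u}}

/-- Stalks of a skyscraper away from its (closed) point vanish. -/
theorem subsingleton_stalk_sky {y : X} (hy : IsClosed ({y} : Set X)) (L : Type u) [AddCommGroup L]
    [Module (X.presheaf.stalk y) L] {x : X} (hx : x ≠ y) :
    Subsingleton ((Devissage.Sky.sky y L).presheaf.stalk x) := by
  refine ⟨fun a b => ?_⟩
  suffices h : ∀ c : (Devissage.Sky.sky y L).presheaf.stalk x, c = 0 by rw [h a, h b]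
  intro c
  obtain ⟨U, hU, s, rfl⟩ := TopCat.Presheaf.exists_germ_eq _ c
  let W : X.Opens := U ⊓ ⟨({y} : Set X)ᶜ, hy.isOpen_compl⟩
  have hW : x ∈ W := ⟨hU, hx⟩
  rw [← TopCat.Presheaf.germ_res_apply (Devissage.Sky.sky y L).presheaf
    (homOfLE (inf_le_left : W ≤ U)) x hW s]
  convert map_zero ((Devissage.Sky.sky y L).presheaf.germ W x hW).hom
  exact funext fun h : PLift (y ∈ W) => absurd rfl (h.down.2)

/-- The stalk sequence of a kernel. -/
theorem stalk_kernel {M N : X.Modules} (φ : M ⟶ N) (x : X) :
    Function.Injective (stalkMapₗ (kernel.ι φ) x) ∧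
      LinearMap.range (stalkMapₗ (kernel.ι φ) x) = LinearMap.ker (stalkMapₗ φ x) := by
  haveI : PreservesFiniteColimits (stalkModFunctor X x) :=
    PreservesColimitsOfSize.preservesFiniteColimits _
  refine ⟨(mono_iff_stalkMapₗ_injective _).1 inferInstance x, ?_⟩
  exact ((ShortComplex.moduleCat_exact_iff_range_eq_ker _).mp
    ((ShortComplex.exact_kernel φ).map (stalkModFunctor X x)))

/-- The stalk of a cokernel vanishes where the map is surjective. -/
theorem subsingleton_stalk_cokernel {M N : X.Modules} (φ : M ⟶ N) (x : X)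
    (h : Function.Surjective (stalkMapₗ φ x)) : Subsingleton ((cokernel φ).presheaf.stalk x) := by
  refine ⟨fun a b => ?_⟩
  suffices h0 : ∀ c : (cokernel φ).presheaf.stalk x, c = 0 by rw [h0 a, h0 b]
  intro c
  obtain ⟨v, rfl⟩ := (epi_iff_stalkMapₗ_surjective (cokernel.π φ)).1 inferInstance x c
  obtain ⟨u, rfl⟩ := h v
  rw [← LinearMap.comp_apply, ← stalkMapₗ_comp, cokernel.condition, stalkMapₗ_zero,
    LinearMap.zero_apply]

/-- Nonunits of a one dimensional local domain have powers divisible by a given nonzero element. -/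
theorem exists_pow_mem {R : Type u} [CommRing R] [IsDomain R] [IsLocalRing R]
    (hdim : ringKrullDim R ≤ 1) {a b : R} (ha : a ≠ 0) (hb : ¬ IsUnit b) :
    ∃ n : ℕ, b ^ n ∈ Ideal.span {a} := by
  haveI : Ring.KrullDimLE 1 R := Order.krullDimLE_iff _ _ |>.2 hdim
  change b ∈ (Ideal.span {a}).radical
  rw [Ideal.radical_eq_sInf, Ideal.mem_sInf]
  rintro p ⟨hap, hp⟩
  have hp0 : p ≠ ⊥ := fun h => ha (by simpa [h] using hap (Ideal.mem_span_singleton_self a))
  haveI := (Ideal.IsPrime.isMaximal_of_ne_bot hp hp0)
  rw [IsLocalRing.eq_maximalIdeal this]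
  exact hb

variable [IsIntegral X] [IsLocallyNoetherian X]

/-- Modification at one point. -/
theorem exists_sub_point (hdim : topologicalKrullDim X ≤ 1) {M : X.Modules} (hM : Coh.IsCoh M)
    {y : X} (hy : IsClosed ({y} : Set X))
    (Λ : Submodule (X.presheaf.stalk y) (M.presheaf.stalk y)) (a : X.presheaf.stalk y) (ha : a ≠ 0)
    (haΛ : ∀ v, a • v ∈ Λ) :
    ∃ (K : X.Modules) (i : K ⟶ M), Mono i ∧ Coh.IsCoh K ∧
      (∀ x, Function.Injective (stalkMapₗ i x)) ∧ LinearMap.range (stalkMapₗ i y) = Λ ∧
      ∀ x, x ≠ y → Function.Bijective (stalkMapₗ i x) := by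
  let φ : M ⟶ Devissage.Sky.sky y (M.presheaf.stalk y ⧸ Λ) := Devissage.Sky.toSky Λ.mkQ
  have hq : (Devissage.Sky.sky y (M.presheaf.stalk y ⧸ Λ)).IsQuasicoherent := by
    refine Devissage.Sky.isQCoh_sky _ _ fun b hb l => ?_
    obtain ⟨n, hn⟩ := exists_pow_mem ((Cyc.TorPD.ringKrullDim_stalk_le y).trans hdim) ha hb
    obtain ⟨c, hc⟩ := Ideal.mem_span_singleton'.1 hn
    obtain ⟨v, rfl⟩ := Λ.mkQ_surjective l
    refine ⟨n, ?_⟩
    rw [← hc, mul_smul, ← map_smul, Submodule.mkQ_apply,
      (Submodule.Quotient.mk_eq_zero Λ).2 (haΛ v), smul_zero]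
  refine ⟨kernel φ, kernel.ι φ, inferInstance, CohBasics.Closure.isCoh_kernel φ hM hq,
    fun x => (stalk_kernel φ x).1, ?_, fun x hx => ⟨(stalk_kernel φ x).1, fun v => ?_⟩⟩
  · rw [(stalk_kernel φ y).2]
    ext v
    rw [LinearMap.mem_ker, Devissage.Sky.stalkMapₗ_toSky, LinearEquiv.map_eq_zero_iff,
      Submodule.mkQ_apply, Submodule.Quotient.mk_eq_zero]
  · haveI := subsingleton_stalk_sky hy (M.presheaf.stalk y ⧸ Λ) hx
    exact (stalk_kernel φ x).2.ge (LinearMap.mem_ker.2 (Subsingleton.elim _ _))

/-- Modification at finitely many points. -/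
theorem exists_sub (hdim : topologicalKrullDim X ≤ 1) {M : X.Modules} (hM : Coh.IsCoh M)
    (T : Finset X) (hT : ∀ y ∈ T, IsClosed ({y} : Set X))
    (Λ : ∀ y : X, Submodule (X.presheaf.stalk y) (M.presheaf.stalk y))
    (hΛ : ∀ y ∈ T, ∃ a : X.presheaf.stalk y, a ≠ 0 ∧ ∀ v : M.presheaf.stalk y, a • v ∈ Λ y) :
    ∃ (K : X.Modules) (i : K ⟶ M), Mono i ∧ Coh.IsCoh K ∧
      (∀ x, Function.Injective (stalkMapₗ i x)) ∧
      (∀ y ∈ T, LinearMap.range (stalkMapₗ i y) = Λ y) ∧
      ∀ x, x ∉ T → Function.Bijective (stalkMapₗ i x) := by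
  classical
  induction T using Finset.induction_on with
  | empty =>
    refine ⟨M, 𝟙 M, inferInstance, hM, fun x => ?_, by simp, fun x _ => ?_⟩
    · rw [stalkMapₗ_id]; exact Function.injective_id
    · rw [stalkMapₗ_id]; exact Function.bijective_id
  | insert y T hy ih =>
    obtain ⟨K, i, hi, hK, hinj, hrange, hbij⟩ := ih
      (fun z hz => hT z (Finset.mem_insert_of_mem hz)) (fun z hz => hΛ z (Finset.mem_insert_of_mem hz))
    obtain ⟨a, ha, haΛ⟩ := hΛ y (Finset.mem_insert_self y T)
    obtain ⟨K', i', hi', hK', hinj', hrange', hbij'⟩ := exists_sub_point hdim hK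
      (hT y (Finset.mem_insert_self y T)) ((Λ y).comap (stalkMapₗ i y)) a ha
      (fun v => by rw [Submodule.mem_comap, map_smul]; exact haΛ _)
    refine ⟨K', i' ≫ i, mono_comp _ _, hK', fun x => ?_, fun z hz => ?_, fun x hx => ?_⟩
    · rw [stalkMapₗ_comp]; exact (hinj x).comp (hinj' x)
    · rw [stalkMapₗ_comp, LinearMap.range_comp]
      rcases Finset.mem_insert.1 hz with rfl | hz
      · rw [hrange', Submodule.map_comap_eq_of_surjective (hbij z hy).2]
      · rw [LinearMap.range_eq_top.2 (hbij' z (fun e => hy (e ▸ hz))).2, Submodule.map_top,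
          hrange z hz]
    · rw [Finset.mem_insert, not_or] at hx
      rw [stalkMapₗ_comp]
      exact (hbij x hx.2).comp (hbij' x hx.1)

/-- A finite torsion-free module contains a free submodule containing a multiple of everything. -/
theorem exists_free_lattice (R : Type u) [CommRing R] [IsDomain R] (M : Type u) [AddCommGroup M]
    [Module R M] [Module.Finite R M] :
    ∃ (Λ : Submodule R M) (a : R), Module.Free R Λ ∧ a ≠ 0 ∧ ∀ v, a • v ∈ Λ := by
  classical
  obtain ⟨n, s, hs⟩ := Module.Finite.exists_fin (R := R) (M := M)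
  obtain ⟨I, hI, hmax⟩ := exists_maximal_linearIndepOn R s
  have hI' : LinearIndependent R fun i : I => s i := hI
  choose a ha0 ha using hmax
  let a' : Fin n → R := fun i => if h : i ∈ I then 1 else a i h
  let Λ := Submodule.span R (Set.range fun i : I => s i)
  have ha' : ∀ i, a' i • s i ∈ Λ := fun i => by
    by_cases h : i ∈ I
    · simp only [a', h, dite_true, one_smul]
      exact Submodule.subset_span ⟨⟨i, h⟩, rfl⟩
    · simp only [a', h, dite_false]
      refine Submodule.span_mono ?_ (ha i h)
      rintro _ ⟨j, hj, rfl⟩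
      exact ⟨⟨j, hj⟩, rfl⟩
  refine ⟨Λ, ∏ i, a' i, Module.Free.of_basis (Module.Basis.span hI'),
    Finset.prod_ne_zero_iff.2 fun i _ => ?_, fun v => ?_⟩
  · by_cases h : i ∈ I
    · simp [a', h]
    · simpa [a', h] using ha0 i h
  · have hv : v ∈ Submodule.span R (Set.range s) := hs.symm ▸ trivial
    induction hv using Submodule.span_induction with
    | mem x hx =>
      obtain ⟨j, rfl⟩ := hx
      rw [← Finset.prod_erase_mul _ _ (Finset.mem_univ j), mul_smul]
      exact Λ.smul_mem _ (ha' j)
    | zero => simp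
    | add x y _ _ hx hy => rw [smul_add]; exact Λ.add_mem hx hy
    | smul r x _ hx => rw [smul_comm]; exact Λ.smul_mem _ hx

/-- Finite torsion-free modules over a regular local ring of dimension at most one are free. -/
theorem free_stalk_of_regular (hdim : topologicalKrullDim X ≤ 1) {M : X.Modules}
    (hM : Coh.IsCoh M) (hT : TorSh.IsTorsionFree M) (x : X)
    (hx : IsRegularLocalRing (X.presheaf.stalk x)) :
    Module.Free (X.presheaf.stalk x) (M.presheaf.stalk x) := by
  haveI := RefHull.LocFree.isPrincipalIdealRing_of_regular (X.presheaf.stalk x)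
    ((Cyc.TorPD.ringKrullDim_stalk_le x).trans hdim)
  haveI := hT x
  haveI := RefHull.Reflexive.finite_stalk hM x
  exact Module.free_of_finite_type_torsion_free'

/-- A finite locally free module on an integral scheme has the generic rank. -/
theorem isFinLocFreeOfRank_of_free {M : X.Modules} (hM : Coh.IsCoh M)
    (hfree : ∀ x : X, Module.Free (X.presheaf.stalk x) (M.presheaf.stalk x)) :
    FlatMod.IsFinLocFreeOfRank
      (Module.finrank (X.presheaf.stalk (genericPoint X)) (M.presheaf.stalk (genericPoint X))) M := by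
  intro x
  obtain ⟨U, n, hx, ⟨i⟩⟩ := RefHull.LocFree.isFinLocFree hM hfree x
  obtain ⟨s, hs⟩ := CurveBundle.Coherent.exists_basis_sections i
  have hη : genericPoint X ∈ U := CurveBundle.LocFree.generic_mem hx
  letI : Field (X.presheaf.stalk (genericPoint X)) := inferInstanceAs (Field X.functionField)
  rw [Module.finrank_eq_card_basis (Module.Basis.mk (hs _ hη).1 (hs _ hη).2.ge), Fintype.card_fin]
  exact ⟨U, hx, ⟨i⟩⟩

/-- A torsion-free coherent module on a curve has a locally free submodule, equal to it at the regular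
points and containing a multiple of every stalk. -/
theorem exists_locFree_sub (hdim : topologicalKrullDim X = 1) [NoetherianSpace X] {M : X.Modules}
    (hM : Coh.IsCoh M) (hT : TorSh.IsTorsionFree M) :
    ∃ (K : X.Modules) (i : K ⟶ M), Mono i ∧ Coh.IsCoh K ∧
      (∀ x, Module.Free (X.presheaf.stalk x) (K.presheaf.stalk x)) ∧
      (∀ x, IsRegularLocalRing (X.presheaf.stalk x) → Function.Bijective (stalkMapₗ i x)) ∧
      Function.Bijective (stalkMapₗ i (genericPoint X)) ∧
      ∀ x, ∃ a : X.presheaf.stalk x, a ≠ 0 ∧ ∀ v, ∃ w, stalkMapₗ i x w = a • v := by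
  classical
  have hgen : Module.Free (X.presheaf.stalk (genericPoint X)) (M.presheaf.stalk (genericPoint X)) := by
    letI : Field (X.presheaf.stalk (genericPoint X)) := inferInstanceAs (Field X.functionField)
    exact Module.Free.of_divisionRing _ _
  let S : Set X := {x | ¬ Module.Free (X.presheaf.stalk x) (M.presheaf.stalk x)}
  have hSc : IsClosed S := (RefHull.LocFree.isOpen_free hM).isClosed_compl
  have hSη : genericPoint X ∉ S := fun h => h hgen
  have hSf : S.Finite := SmoothCurve.Curve.finite_of_isClosed hdim hSc hSη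
  have hlat : ∀ y : X, ∃ (Λ : Submodule (X.presheaf.stalk y) (M.presheaf.stalk y))
      (a : X.presheaf.stalk y), Module.Free (X.presheaf.stalk y) Λ ∧ a ≠ 0 ∧ ∀ v, a • v ∈ Λ := fun y =>
    haveI := RefHull.Reflexive.finite_stalk hM y
    exists_free_lattice _ _
  choose Λ a hΛf ha haΛ using hlat
  obtain ⟨K, i, hi, hK, hinj, hrange, hbij⟩ := exists_sub hdim.le hM hSf.toFinset (fun y hy =>
    ((SmoothCurve.Curve.eq_genericPoint_or_isClosed hdim y).resolve_left
      fun e => hSη (e ▸ hSf.mem_toFinset.1 hy))) Λ (fun y _ => ⟨a y, ha y, haΛ y⟩)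
  refine ⟨K, i, hi, hK, fun x => ?_, fun x hx => hbij x fun h =>
      hSf.mem_toFinset.1 h (free_stalk_of_regular hdim.le hM hT x hx),
    hbij _ (fun h => hSη (hSf.mem_toFinset.1 h)), fun x => ?_⟩
  · by_cases hx : x ∈ hSf.toFinset
    · haveI := hΛf x
      haveI : Module.Free (X.presheaf.stalk x) (LinearMap.range (stalkMapₗ i x)) := by
        rw [hrange x hx]; infer_instance
      exact Module.Free.of_equiv (LinearEquiv.ofInjective _ (hinj x)).symm
    · haveI : Module.Free (X.presheaf.stalk x) (M.presheaf.stalk x) :=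
        not_not.1 fun h => hx (hSf.mem_toFinset.2 h)
      exact Module.Free.of_equiv (LinearEquiv.ofBijective _ (hbij x hx)).symm
  · by_cases hx : x ∈ hSf.toFinset
    · exact ⟨a x, ha x, fun v => (hrange x hx).ge (haΛ x v)⟩
    · exact ⟨1, one_ne_zero, fun v => (hbij x hx).2 _⟩

/-- The dual of a coherent module is torsion-free. -/
theorem isTorsionFree_dual {M : X.Modules} (hM : Coh.IsCoh M) :
    TorSh.IsTorsionFree (RefHull.dual M) := fun x =>
  (RefHull.Reflexive.dualStalkEquiv hM x).injective.moduleIsTorsionFree _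
    fun c v => map_smul _ c v

/-- The biduality map composed with the transpose. -/
theorem evalStalk_bidual_dualMap {M K : X.Modules} (i : K ⟶ RefHull.dual M) (x : X)
    (v : M.presheaf.stalk x) (θ : K.presheaf.stalk x) :
    RefHull.evalStalk K (Coh.structureModule X) x
        (stalkMapₗ (RefHull.bidualMap M ≫ Cyc.CH.dualMap i) x v) θ =
      RefHull.evalStalk M (Coh.structureModule X) x (stalkMapₗ i x θ) v := by
  rw [stalkMapₗ_comp, LinearMap.comp_apply, Cyc.CH.evalStalk_dualMap, LinearMap.comp_apply]
  exact LinearMap.congr_fun (RefHull.Reflexive.evalStalk_stalkMap_bidual M x v) _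

/-- A torsion-free coherent module on a curve embeds in a locally free one, equal to it at the regular
points. -/
theorem exists_locFree_super (hdim : topologicalKrullDim X = 1) [NoetherianSpace X] {M : X.Modules}
    (hM : Coh.IsCoh M) (hT : TorSh.IsTorsionFree M) :
    ∃ (E : X.Modules) (j : M ⟶ E), Coh.IsCoh E ∧ Mono j ∧
      (∀ x, Module.Free (X.presheaf.stalk x) (E.presheaf.stalk x)) ∧
      (∀ x, IsRegularLocalRing (X.presheaf.stalk x) → Function.Bijective (stalkMapₗ j x)) ∧
      Function.Bijective (stalkMapₗ j (genericPoint X)) := by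
  obtain ⟨K, i, hi, hK, hKf, hreg, hgen, hmul⟩ :=
    exists_locFree_sub hdim (RefHull.Reflexive.isCoh_dual hM) (isTorsionFree_dual hM)
  let j := RefHull.bidualMap M ≫ Cyc.CH.dualMap i
  have hbij : ∀ x, Module.Free (X.presheaf.stalk x) (M.presheaf.stalk x) →
      Function.Bijective (stalkMapₗ i x) → Function.Bijective (stalkMapₗ j x) := by
    intro x hfree hix
    haveI := hfree
    haveI := RefHull.Reflexive.finite_stalk hM x
    have hb : Function.Bijective (stalkMapₗ (RefHull.bidualMap M) x) :=
      (RefHull.Reflexive.bijective_stalkMap_bidual_iff hM x).2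
        (inferInstanceAs (Module.IsReflexive (X.presheaf.stalk x) (M.presheaf.stalk x)))
    have e1 := RefHull.HomSh.evalStalk_bijective (G := Coh.structureModule X) hK x
    have e2 := RefHull.HomSh.evalStalk_bijective (G := Coh.structureModule X)
      (RefHull.Reflexive.isCoh_dual hM) x
    have hd : Function.Bijective (stalkMapₗ (Cyc.CH.dualMap i) x) := by
      refine (e1.of_comp_iff' _).1 ?_
      have h : ⇑(RefHull.evalStalk K (Coh.structureModule X) x) ∘ ⇑(stalkMapₗ (Cyc.CH.dualMap i) x) =
          ⇑((LinearEquiv.congrLeft _ (X.presheaf.stalk x)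
            (LinearEquiv.ofBijective _ hix).symm)) ∘
          ⇑(RefHull.evalStalk (RefHull.dual M) (Coh.structureModule X) x) := by
        funext η
        refine LinearMap.ext fun w => ?_
        simp only [Function.comp_apply, Cyc.CH.evalStalk_dualMap]
        rfl
      rw [h]
      exact (LinearEquiv.bijective _).comp e2
    rw [stalkMapₗ_comp]
    exact hd.comp hb
  refine ⟨RefHull.dual K, j, RefHull.Reflexive.isCoh_dual hK, ?_, fun x => ?_, fun x hx =>
    hbij x (free_stalk_of_regular hdim.le hM hT x hx) (hreg x hx), hbij _ ?_ hgen⟩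
  · refine (mono_iff_stalkMapₗ_injective j).2 fun x => (injective_iff_map_eq_zero _).2 fun v hv => ?_
    haveI := RefHull.Reflexive.finite_stalk hM x
    haveI := hT x
    obtain ⟨a, ha, haw⟩ := hmul x
    have hall : ∀ η : Module.Dual (X.presheaf.stalk x) (M.presheaf.stalk x), η v = 0 := by
      intro η
      obtain ⟨θ, hθ⟩ := haw ((RefHull.Reflexive.dualStalkEquiv hM x).symm η)
      have h := evalStalk_bidual_dualMap i x v θ
      rw [hv, map_zero, LinearMap.zero_apply, hθ] at h
      have h' := congrArg (RefHull.Reflexive.oEquiv x) h.symm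
      rw [map_zero, ← RefHull.Reflexive.dualStalkEquiv_apply hM x, map_smul,
        LinearEquiv.apply_symm_apply, LinearMap.smul_apply, smul_eq_mul, mul_eq_zero] at h'
      exact h'.resolve_left ha
    obtain ⟨ι, hι, c, e, θ, hc, h⟩ :=
      RefHull.DualAlg.exists_coord (X.presheaf.stalk x) (M.presheaf.stalk x)
    have h1 := h v
    simp only [hall, zero_smul, Finset.sum_const_zero] at h1
    exact (smul_eq_zero.1 h1).resolve_left hc
  · haveI := hKf x
    haveI := RefHull.Reflexive.finite_stalk hK x
    exact Module.Free.of_equiv (RefHull.Reflexive.dualStalkEquiv hK x).symm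
  · letI : Field (X.presheaf.stalk (genericPoint X)) := inferInstanceAs (Field X.functionField)
    exact Module.Free.of_divisionRing _ _

/-- The two finrank facts. -/
theorem finrank_generic_dual {M : X.Modules} (hM : Coh.IsCoh M) :
    Module.finrank (X.presheaf.stalk (genericPoint X))
        ((RefHull.dual M).presheaf.stalk (genericPoint X)) =
      Module.finrank (X.presheaf.stalk (genericPoint X)) (M.presheaf.stalk (genericPoint X)) := by
  letI : Field (X.presheaf.stalk (genericPoint X)) := inferInstanceAs (Field X.functionField)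
  rw [(RefHull.Reflexive.dualStalkEquiv hM _).finrank_eq, Subspace.dual_finrank_eq]

end Groth.Agent.H84.TFCurve.Lattice
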