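import Groth.Agent.H84.TFCurve.Lattice
import Groth.Agent.Lib.Normalization.Basic
import Groth.Agent.Lib.Normalization.CokerStalk
import Groth.Agent.Lib.Ample.GG
import Groth.Agent.Lib.Normalization.InFieldVariety
import Groth.Agent.Lib.QCoh.Stalk
import Groth.Agent.Lib.Cyc.C1Indep
import Groth.Agent.H93.TorFree
import Groth.Agent.Lib.CohDelta.IdealMul.FinPush

/-!
# Generators of an invertible module along the fibres of a finite morphism
-/

set_option autoImplicit false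
set_option linter.style.haveILetI false
universe u

open CategoryTheory CategoryTheory.Limits AlgebraicGeometry TopologicalSpace Opposite

noncomputable section

namespace Groth.Agent.H84.TFCurve.PushGen

open Groth.Agent.Lib Modules.StalkModule

section
variable {X Y : Scheme.{u}} (ν : Y ⟶ X) (N : Y.Modules)

/-- The germ at `y` of a section of the direct image. -/
abbrev germY {U : X.Opens} (y : Y) (hy : ν y ∈ U) (t : Γ((Coh.push ν).obj N, U)) :
    N.presheaf.stalk y :=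
  N.presheaf.germ (ν ⁻¹ᵁ U) y hy t

set_option maxHeartbeats 1000000 in
/-- A section in the span of `t` at a point is in the span of `t` at every point above it. -/
theorem germY_mem_span {U : X.Opens} (y : Y) (hy : ν y ∈ U) (s t : Γ((Coh.push ν).obj N, U))
    (h : ((Coh.push ν).obj N).presheaf.germ U (ν y) hy s ∈
      Submodule.span (X.presheaf.stalk (ν y)) {((Coh.push ν).obj N).presheaf.germ U (ν y) hy t}) :
    germY ν N y hy s ∈ Submodule.span (Y.presheaf.stalk y) {germY ν N y hy t} := by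
  obtain ⟨a, ha⟩ := Submodule.mem_span_singleton.1 h
  obtain ⟨W, hW, r, rfl⟩ := TopCat.Presheaf.exists_germ_eq X.presheaf a
  let M := (Coh.push ν).obj N
  have hWU : ν y ∈ W ⊓ U := ⟨hW, hy⟩
  rw [← TopCat.Presheaf.germ_res_apply X.presheaf (homOfLE (inf_le_left : W ⊓ U ≤ W)) _ hWU r,
    ← TopCat.Presheaf.germ_res_apply M.presheaf (homOfLE (inf_le_right : W ⊓ U ≤ U)) _ hWU t] at ha
  obtain ⟨W', hW', i₁, i₂, e⟩ := TopCat.Presheaf.germ_eq M.presheaf _ hWU hy
    (X.presheaf.map (homOfLE inf_le_left).op r • M.presheaf.map (homOfLE inf_le_right).op t) s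
    ((germ_smul (M := M) hWU _ _).trans ha)
  obtain ⟨r₂, hr₂⟩ : ∃ v : Γ(X, W'), X.presheaf.map i₁.op
    (X.presheaf.map (homOfLE (inf_le_left : W ⊓ U ≤ W)).op r) = v := ⟨_, rfl⟩
  obtain ⟨t₂, ht₂⟩ : ∃ v : Γ(M, W'), M.presheaf.map i₁.op
    (M.presheaf.map (homOfLE (inf_le_right : W ⊓ U ≤ U)).op t) = v := ⟨_, rfl⟩
  have e2 : r₂ • t₂ = M.presheaf.map i₂.op s := by
    rw [← hr₂, ← ht₂, ← Scheme.Modules.map_smul]
    exact e
  have e3 : ν.app W' r₂ • (show Γ(N, ν ⁻¹ᵁ W') from t₂) =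
      (show Γ(N, ν ⁻¹ᵁ W') from M.presheaf.map i₂.op s) :=
    (Groth.Agent.H93.TorFree.pushforward_smul ν N W' r₂ t₂).symm.trans e2
  have hS : N.presheaf.germ (ν ⁻¹ᵁ W') y hW'
      (show Γ(N, ν ⁻¹ᵁ W') from M.presheaf.map i₂.op s) = germY ν N y hy s :=
    TopCat.Presheaf.germ_res_apply N.presheaf ((Opens.map ν.base).map i₂) y hW' s
  have hcomp : (M.presheaf.map i₁.op (M.presheaf.map (homOfLE (inf_le_right : W ⊓ U ≤ U)).op t)) =
      M.presheaf.map (i₁ ≫ homOfLE (inf_le_right : W ⊓ U ≤ U)).op t := by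
    rw [op_comp, Functor.map_comp]; rfl
  have hT : N.presheaf.germ (ν ⁻¹ᵁ W') y hW' (show Γ(N, ν ⁻¹ᵁ W') from t₂) = germY ν N y hy t := by
    rw [← ht₂, hcomp]
    exact TopCat.Presheaf.germ_res_apply N.presheaf
      ((Opens.map ν.base).map (i₁ ≫ homOfLE (inf_le_right : W ⊓ U ≤ U))) y hW' t
  refine Submodule.mem_span_singleton.2 ⟨Y.presheaf.germ (ν ⁻¹ᵁ W') y hW' (ν.app W' r₂), ?_⟩
  have hyW : y ∈ ν ⁻¹ᵁ W' := hW'
  rw [← hS, ← hT]
  exact (germ_smul (M := N) hyW _ _).symm.trans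
    (congrArg (fun z => N.presheaf.germ (ν ⁻¹ᵁ W') y hyW z) e3)

/-- A finite morphism has no specializations inside a fibre. -/
theorem eq_of_specializes [IsFinite ν] {y z : Y} (h : y ⤳ z) (he : ν y = ν z) : y = z := by
  haveI : DiscreteTopology ↥(ν ⁻¹' {ν z}) :=
    (ν.isDiscrete_preimage_singleton (ν z)).to_subtype
  exact congrArg Subtype.val
    ((Topology.IsInducing.subtypeVal.specializes_iff
      (x := (⟨y, he⟩ : ↥(ν ⁻¹' {ν z}))) (y := ⟨z, rfl⟩)).1 h).eq

/-- Over an affine open a finite fibre has a common generator of an invertible module. -/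
theorem exists_fibre_gen [IsFinite ν] (hN : PicF.IsInvertible N) {U : X.Opens} (hU : IsAffineOpen U)
    {x : X} (hx : x ∈ U) :
    ∃ e : Γ((Coh.push ν).obj N, U), ∀ (y : Y) (hy : ν y = x),
      Submodule.span (Y.presheaf.stalk y) {germY ν N y (hy ▸ hx) e} = ⊤ := by
  classical
  have hV : IsAffineOpen (ν ⁻¹ᵁ U) := hU.preimage ν
  haveI := (Ample.GG.isCoh_of_isInvertible hN).1
  obtain ⟨F, memF⟩ : ∃ F : Finset Y, ∀ y, y ∈ F ↔ ν y = x :=
    ⟨(ν.finite_preimage_singleton x).toFinset, fun y => by simp⟩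
  have hmem : ∀ {y : Y}, y ∈ F → y ∈ ν ⁻¹ᵁ U := fun {y} hy =>
    show ν y ∈ U from ((memF y).1 hy).symm ▸ hx
  have hsec : ∀ y : {y // y ∈ F}, ∃ s : Γ(N, ν ⁻¹ᵁ U),
      Submodule.span (Y.presheaf.stalk y.1) {N.presheaf.germ _ y.1 (hmem y.2) s} = ⊤ := fun y => by
    obtain ⟨g, hg, -⟩ := Cyc.C1Indep.exists_free_gen hN y.1
    obtain ⟨c, s, hc, hcs⟩ := QCoh.Stalk.exists_smul_eq_germ N hV (hmem y.2) g
    refine ⟨s, ?_⟩
    rw [← hcs, Submodule.span_singleton_smul_eq ((Y.mem_basicOpen c _ (hmem y.2)).1 hc), hg]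
  choose s hs using hsec
  have hsep : ∀ i j : {y // y ∈ F}, i ≠ j →
      ∃ f : Γ(Y, ν ⁻¹ᵁ U), i.1 ∈ Y.basicOpen f ∧ j.1 ∉ Y.basicOpen f := by
    intro i j hij
    by_contra hcon
    push Not at hcon
    refine hij (Subtype.ext (eq_of_specializes ν ?_
      (((memF _).1 j.2).trans ((memF _).1 i.2).symm)).symm)
    rw [specializes_iff_forall_open]
    intro O hO hiO
    obtain ⟨f, hfO, hif⟩ := hV.exists_basicOpen_le (V := ⟨O, hO⟩ ⊓ ν ⁻¹ᵁ U)
      ⟨i.1, hiO, hmem i.2⟩ (hmem i.2)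
    exact (hfO (hcon f hif)).1
  choose f hfi hfj using hsep
  let a : {y // y ∈ F} → Γ(Y, ν ⁻¹ᵁ U) := fun i =>
    ∏ j ∈ Finset.univ.erase i, if h : i ≠ j then f i j h else 1
  refine ⟨∑ i, a i • s i, fun y hy => ?_⟩
  have hyF : y ∈ F := (memF y).2 hy
  let R := Y.presheaf.stalk y
  let γ := N.presheaf.germ (ν ⁻¹ᵁ U) y (hmem hyF)
  let ρ := Y.presheaf.germ (ν ⁻¹ᵁ U) y (hmem hyF)
  let i₀ : {y // y ∈ F} := ⟨y, hyF⟩
  obtain ⟨g, hg⟩ : ∃ g, γ (s i₀) = g ∧ Submodule.span R {g} = ⊤ := ⟨_, rfl, hs i₀⟩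
  have hu : IsUnit (ρ (a i₀)) := by
    rw [map_prod, IsUnit.prod_iff]
    intro j hj
    rw [dif_pos (Finset.ne_of_mem_erase hj).symm]
    exact (Y.mem_basicOpen _ y (hmem hyF)).1 (hfi i₀ j _)
  have hrest : ∀ j : {y // y ∈ F}, j ≠ i₀ →
      ρ (a j) ∈ IsLocalRing.maximalIdeal R := by
    intro j hj
    rw [map_prod, ← Finset.mul_prod_erase _ _ (Finset.mem_erase.2 ⟨hj.symm, Finset.mem_univ _⟩),
      dif_pos hj]
    exact Ideal.mul_mem_right _ _ fun hu' => hfj j i₀ hj ((Y.mem_basicOpen _ y (hmem hyF)).2 hu')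
  have hcoord : ∀ j : {y // y ∈ F}, ∃ b : R, b • g = γ (s j) := fun j =>
    Submodule.mem_span_singleton.1 (hg.2.ge trivial)
  choose b hb using hcoord
  let c : R := ∑ j, ρ (a j) * b j
  have hc : IsUnit (ρ (a i₀) * 1 + ∑ j ∈ Finset.univ.erase i₀, ρ (a j) * b j) := by
    refine (IsLocalRing.notMem_maximalIdeal.1 fun hm => ?_)
    have h1 : ∑ j ∈ Finset.univ.erase i₀, ρ (a j) * b j ∈ IsLocalRing.maximalIdeal R :=
      Ideal.sum_mem _ fun j hj => Ideal.mul_mem_right _ _ (hrest j (Finset.ne_of_mem_erase hj))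
    exact (IsLocalRing.notMem_maximalIdeal.2 hu) (by simpa using Ideal.sub_mem _ hm h1)
  have he : γ (∑ i, a i • s i) =
      (ρ (a i₀) * 1 + ∑ j ∈ Finset.univ.erase i₀, ρ (a j) * b j) • g := by
    rw [map_sum, ← Finset.add_sum_erase _ _ (Finset.mem_univ i₀), add_smul, Finset.sum_smul]
    refine congrArg₂ (· + ·) ?_ (Finset.sum_congr rfl fun j _ => ?_)
    · rw [germ_smul, mul_one, ← hg.1]
    · rw [germ_smul, mul_smul, hb j]
  change Submodule.span R {γ (∑ i, a i • s i)} = ⊤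
  rw [he, Submodule.span_singleton_smul_eq hc, hg.2]

end

variable (X : Scheme.{u}) [IsIntegral X] [QuasiCompact (X.fromSpecStalk (genericPoint X))]
  [QuasiSeparated (X.fromSpecStalk (genericPoint X))]

/-- Sections of an invertible module on the normalization are proportional over the base. -/
theorem exists_smul_mem {U : X.Opens} (hU : IsAffineOpen U) {x : X} (hx : x ∈ U)
    {N : (Curv2.normalization X).Modules} (hN : PicF.IsInvertible N)
    (s e : Γ((Coh.push (Curv2.normalizationι X)).obj N, U))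
    (he : ((Coh.push (Curv2.normalizationι X)).obj N).presheaf.germ U x hx e ≠ 0) :
    ∃ a : X.presheaf.stalk x, a ≠ 0 ∧
      a • ((Coh.push (Curv2.normalizationι X)).obj N).presheaf.germ U x hx s ∈
        Submodule.span (X.presheaf.stalk x)
          {((Coh.push (Curv2.normalizationι X)).obj N).presheaf.germ U x hx e} := by
  let ν := Curv2.normalizationι X
  let Y := Curv2.normalization X
  haveI : Nonempty U := ⟨⟨x, hx⟩⟩
  haveI : Nonempty (ν ⁻¹ᵁ U) := Normalization.Basic.nonempty_preimage X U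
  have hV : IsAffineOpen (ν ⁻¹ᵁ U) := hU.preimage ν
  haveI := (Ample.GG.isCoh_of_isInvertible hN).1
  let η := genericPoint Y
  have hη : η ∈ ν ⁻¹ᵁ U := Normalization.Basic.genericPoint_mem Y _
  let B := Γ(Y, ν ⁻¹ᵁ U)
  let γ := N.presheaf.germ (ν ⁻¹ᵁ U) η hη
  have htf : TorSh.IsTorsionFree N := fun y => by
    obtain ⟨g, hg, hinj⟩ := Cyc.C1Indep.exists_free_gen hN y
    refine ⟨fun a ha => (isSMulRegular_iff_right_eq_zero_of_smul).2 fun z hz => ?_⟩
    obtain ⟨b, rfl⟩ := Submodule.mem_span_singleton.1 (hg.ge (trivial : z ∈ ⊤))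
    rw [smul_smul] at hz
    rw [show b = 0 from (mul_eq_zero.1 (hinj _ hz)).resolve_left ha.ne_zero, zero_smul]
  have hγ : ∀ t : Γ(N, ν ⁻¹ᵁ U), γ t = 0 → t = 0 := fun t ht =>
    TopCat.Presheaf.section_ext ⟨N.presheaf, N.isSheaf⟩ _ _ _ fun y hy =>
      (CurveBundle.Rank.eq_zero_of_germ_generic htf hy t ht).trans
        (map_zero (N.presheaf.germ _ y hy).hom).symm
  -- proportionality over the sections of the normalization
  obtain ⟨g, hg, hginj⟩ := Cyc.C1Indep.exists_free_gen hN η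
  obtain ⟨p, hp⟩ := Submodule.mem_span_singleton.1 (hg.ge (trivial : γ s ∈ ⊤))
  obtain ⟨q, hq⟩ := Submodule.mem_span_singleton.1 (hg.ge (trivial : γ e ∈ ⊤))
  letI : Field (Y.presheaf.stalk η) := inferInstanceAs (Field Y.functionField)
  have hq0 : q ≠ 0 := by
    rintro rfl
    rw [zero_smul] at hq
    exact he (by rw [hγ e hq.symm]; exact map_zero _)
  haveI := functionField_isFractionRing_of_isAffineOpen Y _ hV
  obtain ⟨b', b, hb, hbq⟩ := IsFractionRing.div_surjective (A := B) (p / q : Y.functionField)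
  have hb0 : Y.presheaf.germ (ν ⁻¹ᵁ U) η hη b ≠ 0 := fun h =>
    nonZeroDivisors.ne_zero hb (Y.germToFunctionField_injective _ (h.trans (map_zero _).symm))
  have hbs : b • (show Γ(N, ν ⁻¹ᵁ U) from s) = b' • (show Γ(N, ν ⁻¹ᵁ U) from e) := by
    refine sub_eq_zero.1 (hγ _ ?_)
    rw [map_sub, germ_smul, germ_smul, sub_eq_zero, ← hp, ← hq, smul_smul, smul_smul]
    congr 1
    have h := (div_eq_div_iff (b := (Y.presheaf.germ (ν ⁻¹ᵁ U) η hη b))
      (d := q) hb0 hq0).1 hbq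
    linear_combination -h
  -- both multipliers are fractions of functions on the base
  haveI := functionField_isFractionRing_of_isAffineOpen X U hU
  let σ := Normalization.Basic.sectionsEquiv X hU
  have hfrac : ∀ z : B, ∃ a c : Γ(X, U), c ≠ 0 ∧ ν.app U c * z = ν.app U a := fun z => by
    obtain ⟨a, c, hc, hac⟩ := IsFractionRing.div_surjective (A := Γ(X, U))
      ((σ z).1 : X.functionField)
    refine ⟨a, c, nonZeroDivisors.ne_zero hc, σ.injective (Subtype.ext ?_)⟩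
    rw [map_mul, Normalization.Basic.sectionsEquiv_app, Normalization.Basic.sectionsEquiv_app,
      MulMemClass.coe_mul, ← hac]
    exact mul_div_cancel₀ _ (IsFractionRing.to_map_ne_zero_of_mem_nonZeroDivisors hc)
  obtain ⟨a₁, c₁, hc₁, h₁⟩ := hfrac b
  obtain ⟨a₂, c₂, hc₂, h₂⟩ := hfrac b'
  have ha₁ : a₁ ≠ 0 := fun h => by
    rw [h, map_zero, mul_eq_zero] at h₁
    rcases h₁ with h₁ | h₁
    · exact hc₁ ((Normalization.CokerStalk.app_injective X U) (h₁.trans (map_zero _).symm))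
    · exact nonZeroDivisors.ne_zero hb h₁
  let M := (Coh.push ν).obj N
  have hkey : (a₁ * c₂) • s = (a₂ * c₁) • e := by
    change ν.app U (a₁ * c₂) • (show Γ(N, ν ⁻¹ᵁ U) from s) =
      ν.app U (a₂ * c₁) • (show Γ(N, ν ⁻¹ᵁ U) from e)
    rw [map_mul, map_mul, ← h₁, ← h₂,
      show ν.app U c₁ * b * ν.app U c₂ = (ν.app U c₁ * ν.app U c₂) * b by ring,
      show ν.app U c₂ * b' * ν.app U c₁ = (ν.app U c₁ * ν.app U c₂) * b' by ring,
      mul_smul (ν.app U c₁ * ν.app U c₂), mul_smul (ν.app U c₁ * ν.app U c₂), hbs]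
  refine ⟨X.presheaf.germ U x hx (a₁ * c₂), fun h => mul_ne_zero ha₁ hc₂
    (germ_injective_of_isIntegral X x hx (h.trans (map_zero _).symm)), ?_⟩
  rw [← germ_smul, hkey, germ_smul]
  exact Submodule.smul_mem _ _ (Submodule.mem_span_singleton_self _)

end Groth.Agent.H84.TFCurve.PushGen
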