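import Groth.Agent.H84.TFCurve.PushGen
import Groth.Agent.Lib.Normalization.DimOne
import Groth.Agent.Lib.DerivedOX.PullbackStalk
import Groth.Agent.Lib.ZarCoh.FlatBC.PullbackSections
import Groth.Agent.Lib.QCoh.Closure
import Groth.Agent.Lib.Cyc.FP.Stalk
import Mathlib.RingTheory.DedekindDomain.PID
import Mathlib.RingTheory.DedekindDomain.Dvr

/-!
# Inverse and direct images along the normalization at the generic point
-/

set_option autoImplicit false
set_option linter.style.haveILetI false
universe u

open CategoryTheory CategoryTheory.Limits AlgebraicGeometry TopologicalSpace Opposite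
open scoped TensorProduct

noncomputable section

namespace Groth.Agent.H84.TFCurve.PushGeneric

open Groth.Agent.Lib Modules.StalkModule

variable (X : Scheme.{u}) [IsIntegral X] [QuasiCompact (X.fromSpecStalk (genericPoint X))]
  [QuasiSeparated (X.fromSpecStalk (genericPoint X))]

local notation "ν" => Curv2.normalizationι X
local notation "η'" => genericPoint (Curv2.normalization X)

/-- The generic point of the normalization lies over the generic point. -/
theorem genericPoint_map : ν η' = genericPoint X := by
  obtain ⟨y, hy⟩ := Normalization.Basic.surjective_normalizationι X (genericPoint X)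
  have h : ν η' ⤳ ν y := ((genericPoint_spec _).specializes trivial).map (ν).continuous
  rw [hy] at h
  exact (h.antisymm ((genericPoint_spec X).specializes trivial)).eq

/-- Functions on the normalization are fractions of functions on the base. -/
theorem exists_frac {U : X.Opens} (hU : IsAffineOpen U) [Nonempty U]
    (z : Γ(Curv2.normalization X, ν ⁻¹ᵁ U)) :
    ∃ a c : Γ(X, U), c ≠ 0 ∧ (ν).app U c * z = (ν).app U a := by
  haveI := functionField_isFractionRing_of_isAffineOpen X U hU
  obtain ⟨a, c, hc, hac⟩ := IsFractionRing.div_surjective (A := Γ(X, U))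
    ((Normalization.Basic.sectionsEquiv X hU z).1 : X.functionField)
  refine ⟨a, c, nonZeroDivisors.ne_zero hc,
    (Normalization.Basic.sectionsEquiv X hU).injective (Subtype.ext ?_)⟩
  rw [map_mul, Normalization.Basic.sectionsEquiv_app, Normalization.Basic.sectionsEquiv_app,
    MulMemClass.coe_mul, ← hac]
  exact mul_div_cancel₀ _ (IsFractionRing.to_map_ne_zero_of_mem_nonZeroDivisors hc)

/-- The normalization induces an isomorphism of function fields. -/
theorem bijective_stalkMap : Function.Bijective ((ν).stalkMap η') := by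
  letI : Field (X.presheaf.stalk (ν η')) := (show IsField (X.presheaf.stalk (ν η')) by
    rw [genericPoint_map X]; exact Field.toIsField X.functionField).toField
  refine ⟨((ν).stalkMap η').hom.injective, fun z => ?_⟩
  obtain ⟨_, ⟨U, hU, rfl⟩, hxU, -⟩ :=
    X.isBasis_affineOpens.exists_subset_of_mem_open (Set.mem_univ (ν η')) isOpen_univ
  replace hU : IsAffineOpen U := hU
  haveI : Nonempty U := ⟨⟨_, hxU⟩⟩
  haveI : Nonempty ((ν) ⁻¹ᵁ U) := ⟨⟨η', hxU⟩⟩
  haveI := functionField_isFractionRing_of_isAffineOpen (Curv2.normalization X) _ (hU.preimage ν)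
  obtain ⟨b, b', hb', hbb⟩ := IsFractionRing.div_surjective (A := Γ(Curv2.normalization X, (ν) ⁻¹ᵁ U))
    (z : (Curv2.normalization X).functionField)
  obtain ⟨a₁, c₁, hc₁, h₁⟩ := exists_frac X hU b
  obtain ⟨a₂, c₂, hc₂, h₂⟩ := exists_frac X hU b'
  let g : Γ(X, U) →+* X.presheaf.stalk (ν η') := (X.presheaf.germ U (ν η') hxU).hom
  let g' : Γ(Curv2.normalization X, (ν) ⁻¹ᵁ U) →+* (Curv2.normalization X).functionField :=
    ((Curv2.normalization X).presheaf.germ ((ν) ⁻¹ᵁ U) η' hxU).hom
  let st : X.presheaf.stalk (ν η') →+* (Curv2.normalization X).functionField :=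
    ((ν).stalkMap η').hom
  have hst : ∀ r, st (g r) = g' ((ν).app U r) := fun r => Scheme.Hom.germ_stalkMap_apply _ U η' hxU r
  have hz : g' b / g' b' = z := hbb
  refine ⟨g a₁ * g c₂ / (g c₁ * g a₂), ?_⟩
  show st _ = z
  have hinj : ∀ r, r ≠ 0 → g' ((ν).app U r) ≠ 0 := fun r hr h => hr
    ((Normalization.CokerStalk.app_injective X U) ((germ_injective_of_isIntegral _ η' hxU
      (h.trans (map_zero g').symm)).trans (map_zero _).symm))
  have hgb' : g' b' ≠ 0 := fun h => nonZeroDivisors.ne_zero hb'
    (germ_injective_of_isIntegral _ η' hxU (h.trans (map_zero g').symm))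
  rw [map_div₀, map_mul, map_mul, hst, hst, hst, hst, ← h₁, ← h₂, map_mul, map_mul, ← hz]
  field_simp [hinj c₁ hc₁, hinj c₂ hc₂, hgb']

/-- The unit of the inverse image at the generic point. -/
theorem bijective_unitStalk (F : X.Modules) :
    Function.Bijective (fun a : F.presheaf.stalk (ν η') =>
      DerivedOX.PullbackStalk.pushStalkMap ν η' _
        (stalkMapₗ ((Scheme.Modules.pullbackPushforwardAdjunction ν).unit.app F) (ν η') a)) := by
  letI : Algebra (X.presheaf.stalk (ν η')) ((Curv2.normalization X).presheaf.stalk η') :=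
    ((ν).stalkMap η').hom.toAlgebra
  let e : X.presheaf.stalk (ν η') ≃ₗ[X.presheaf.stalk (ν η')]
      (Curv2.normalization X).presheaf.stalk η' :=
    LinearEquiv.ofBijective (Algebra.linearMap _ _) (bijective_stalkMap X)
  let T := (TensorProduct.lid (X.presheaf.stalk (ν η')) (F.presheaf.stalk (ν η'))).symm ≪≫ₗ
    LinearEquiv.rTensor (F.presheaf.stalk (ν η')) e
  have hT : ∀ a, T a = (1 : (Curv2.normalization X).presheaf.stalk η') ⊗ₜ a := fun a => by
    simp only [T, LinearEquiv.trans_apply, TensorProduct.lid_symm_apply, LinearEquiv.rTensor_tmul]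
    congr 1
    exact map_one ((ν).stalkMap η').hom
  have hc : Function.Bijective ((DerivedOX.PullbackStalk.comparison ν η').app F) :=
    (ConcreteCategory.isIso_iff_bijective _).1 inferInstance
  have hh := fun a => (congrArg ((DerivedOX.PullbackStalk.comparison ν η').app F) (hT a)).trans
    (DerivedOX.PullbackStalk.comparison_one_tmul ν η' F a)
  exact ⟨fun a b h => T.injective (hc.1 (((hh a).trans h).trans (hh b).symm)), fun z => by
    obtain ⟨t, rfl⟩ := hc.2 z
    obtain ⟨a, rfl⟩ := T.surjective t
    exact ⟨a, (hh a).symm⟩⟩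

/-- A torsion-free module and its direct image have the same germs at the generic points. -/
theorem injective_pushStalkMap {G : (Curv2.normalization X).Modules} [G.IsQuasicoherent]
    (hG : TorSh.IsTorsionFree G) :
    Function.Injective (DerivedOX.PullbackStalk.pushStalkMap ν η' G) := by
  refine (injective_iff_map_eq_zero _).2 fun a ha => ?_
  obtain ⟨U, hU, s, rfl⟩ := TopCat.Presheaf.exists_germ_eq _ a
  rw [DerivedOX.PullbackStalk.pushStalkMap_germ] at ha
  have hs : (show Γ(G, (ν) ⁻¹ᵁ U) from s) = 0 :=
    TopCat.Presheaf.section_ext ⟨G.presheaf, G.isSheaf⟩ _ _ _ fun y hy =>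
      (CurveBundle.Rank.eq_zero_of_germ_generic hG hy _ ha).trans
        (map_zero (G.presheaf.germ _ y hy).hom).symm
  rw [show s = 0 from hs]
  exact map_zero _

/-- A morphism out of a kernel which vanishes generically vanishes into a torsion-free module. -/
theorem comp_eq_zero_of_generic {P Q G : (Curv2.normalization X).Modules} [G.IsQuasicoherent]
    (hG : TorSh.IsTorsionFree G) (q : P ⟶ Q) (φ : P ⟶ G)
    (hq : Function.Injective (stalkMapₗ q η')) : kernel.ι q ≫ φ = 0 := by
  refine CurveBundle.Rank.eq_zero_of_generic hG _ (LinearMap.ext fun v => ?_)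
  rw [stalkMapₗ_comp, LinearMap.comp_apply, LinearMap.zero_apply]
  have h : stalkMapₗ q η' (stalkMapₗ (kernel.ι q) η' v) = 0 := by
    rw [← LinearMap.comp_apply, ← stalkMapₗ_comp, kernel.condition, stalkMapₗ_zero,
      LinearMap.zero_apply]
  rw [hq (h.trans (map_zero _).symm), map_zero]

/-- The counit is injective at the generic point, on torsion-free modules. -/
theorem injective_counit {E : (Curv2.normalization X).Modules} [E.IsQuasicoherent]
    (hE : TorSh.IsTorsionFree E) :
    Function.Injective
      (stalkMapₗ ((Scheme.Modules.pullbackPushforwardAdjunction ν).counit.app E) η') := by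
  refine (injective_iff_map_eq_zero _).2 fun z hz => ?_
  obtain ⟨a, ha⟩ := (bijective_unitStalk X ((Scheme.Modules.pushforward ν).obj E)).2 z
  subst ha
  have e : stalkMapₗ ((Scheme.Modules.pullbackPushforwardAdjunction ν).counit.app E) η'
      (DerivedOX.PullbackStalk.pushStalkMap ν η' _ (stalkMapₗ
        ((Scheme.Modules.pullbackPushforwardAdjunction ν).unit.app
          ((Scheme.Modules.pushforward ν).obj E)) (ν η') a)) =
      DerivedOX.PullbackStalk.pushStalkMap ν η' E a := by
    refine (DerivedOX.PullbackStalk.pushStalkMap_natural ν η' _ _).symm.trans (congrArg _ ?_)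
    exact (LinearMap.congr_fun (stalkMapₗ_comp _ _ _).symm a).trans ((LinearMap.congr_fun
      (congrArg (fun f => stalkMapₗ f (ν η'))
        ((Scheme.Modules.pullbackPushforwardAdjunction ν).right_triangle_components E)) a).trans
      (LinearMap.congr_fun (stalkMapₗ_id _) a))
  have ha : a = 0 := injective_pushStalkMap X hE ((e.symm.trans hz).trans (map_zero _).symm)
  subst ha
  exact (congrArg (DerivedOX.PullbackStalk.pushStalkMap ν η' _) (map_zero _)).trans (map_zero _)

variable [IsFinite (Curv2.normalizationι X)]

/-- The counit is an epimorphism. -/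
theorem epi_counit (E : (Curv2.normalization X).Modules) [E.IsQuasicoherent] :
    Epi ((Scheme.Modules.pullbackPushforwardAdjunction ν).counit.app E) := by
  rw [epi_iff_stalkMapₗ_surjective]
  intro y z
  let adj := Scheme.Modules.pullbackPushforwardAdjunction ν
  obtain ⟨U, hU, hxU, -⟩ := exists_isAffineOpen_mem_and_subset (X := X) (x := ν y) (U := ⊤) trivial
  have hy : y ∈ (ν) ⁻¹ᵁ U := hxU
  obtain ⟨c, t, hc, hct⟩ := QCoh.Stalk.exists_smul_eq_germ E (hU.preimage ν) hy z
  let P := (Scheme.Modules.pullback ν).obj ((Scheme.Modules.pushforward ν).obj E)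
  let w : Γ(P, (ν) ⁻¹ᵁ U) := (adj.unit.app ((Scheme.Modules.pushforward ν).obj E)).app U t
  have hw : (adj.counit.app E).app ((ν) ⁻¹ᵁ U) w = t := by
    change ((Scheme.Modules.pushforward ν).map (adj.counit.app E)).app U
      ((adj.unit.app ((Scheme.Modules.pushforward ν).obj E)).app U t) = t
    exact congrArg (fun f : (Scheme.Modules.pushforward ν).obj E ⟶ (Scheme.Modules.pushforward ν).obj E =>
      f.app U t) (adj.right_triangle_components E)
  obtain ⟨v, hv⟩ := ((Scheme.mem_basicOpen _ c y hy).1 hc).exists_left_inv
  refine ⟨v • P.presheaf.germ _ y hy w, ?_⟩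
  rw [map_smul]
  refine (congrArg (v • ·) ((stalkMapₗ_germ _ hy w).trans (congrArg _ hw))).trans ?_
  refine (congrArg (v • ·) hct.symm).trans ?_
  rw [smul_smul, hv, one_smul]

/-- Morphisms of direct images of torsion-free modules come from morphisms. -/
theorem exists_map_eq {E E' : (Curv2.normalization X).Modules} [E.IsQuasicoherent] [E'.IsQuasicoherent]
    (hE : TorSh.IsTorsionFree E) (hE' : TorSh.IsTorsionFree E')
    (ψ : (Scheme.Modules.pushforward ν).obj E ⟶ (Scheme.Modules.pushforward ν).obj E') :
    ∃ θ : E ⟶ E', (Scheme.Modules.pushforward ν).map θ = ψ := by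
  let adj := Scheme.Modules.pullbackPushforwardAdjunction ν
  haveI := epi_counit X E
  let φ := (adj.homEquiv _ E').symm ψ
  have hk := comp_eq_zero_of_generic X hE' (adj.counit.app E) φ (injective_counit X hE)
  refine ⟨Abelian.epiDesc (adj.counit.app E) φ hk, ?_⟩
  apply (adj.homEquiv _ E').symm.injective
  rw [Adjunction.homEquiv_counit, adj.counit_naturality, Abelian.comp_epiDesc]

/-- Direct image is faithful on quasi-coherent modules. -/
theorem map_injective {E E' : (Curv2.normalization X).Modules} [E.IsQuasicoherent] (θ θ' : E ⟶ E')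
    (h : (Scheme.Modules.pushforward ν).map θ = (Scheme.Modules.pushforward ν).map θ') : θ = θ' := by
  let adj := Scheme.Modules.pullbackPushforwardAdjunction ν
  haveI := epi_counit X E
  exact (cancel_epi (adj.counit.app E)).1 ((adj.counit.naturality θ).symm.trans
    ((congrArg (fun f => (Scheme.Modules.pullback ν).map f ≫ adj.counit.app E') h).trans
      (adj.counit.naturality θ')))

omit [IsFinite (Curv2.normalizationι X)] in
/-- The local rings of the normalization of a curve are principal. -/
theorem isPrincipal_stalk [IsLocallyNoetherian X] (hdim : topologicalKrullDim X ≤ 1)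
    (y : Curv2.normalization X) :
    IsPrincipalIdealRing ((Curv2.normalization X).presheaf.stalk y) := by
  obtain ⟨V, hV, hyV, -⟩ := exists_isAffineOpen_mem_and_subset
    (X := Curv2.normalization X) (x := y) (U := ⊤) trivial
  haveI : Nonempty V := ⟨⟨y, hyV⟩⟩
  haveI := Normalization.DimOne.isDedekindDomain_sections X hdim hV
  letI : Algebra Γ(Curv2.normalization X, V) ((Curv2.normalization X).presheaf.stalk y) :=
    TopCat.Presheaf.algebra_section_stalk _ (⟨y, hyV⟩ : V)
  haveI := hV.isLocalization_stalk ⟨y, hyV⟩
  haveI := IsLocalization.AtPrime.isDedekindDomain Γ(Curv2.normalization X, V)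
    (hV.primeIdealOf ⟨y, hyV⟩).asIdeal ((Curv2.normalization X).presheaf.stalk y)
  refine IsPrincipalIdealRing.of_finite_maximals ((Set.finite_singleton
    (IsLocalRing.maximalIdeal ((Curv2.normalization X).presheaf.stalk y))).subset ?_)
  intro I hI
  exact IsLocalRing.eq_maximalIdeal hI

end Groth.Agent.H84.TFCurve.PushGeneric
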