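import Groth.Agent.H84.TFCurve.PushGeneric
import Groth.Agent.Lib.ShStab.MuBasics
import Groth.Agent.Lib.SurfInt.Push
import Groth.Agent.Lib.AffineCompl.Dim
import Groth.Agent.Lib.Ample.Pullback
import Groth.Agent.Lib.Modules.ProjFormula
import Groth.Agent.Lib.Curves.GlobalSections

/-!
# Stability along the normalization of a curve
-/

set_option autoImplicit false
set_option linter.style.haveILetI false
universe u

open CategoryTheory CategoryTheory.Limits AlgebraicGeometry TopologicalSpace Opposite

noncomputable section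

namespace Groth.Agent.H84.TFCurve.PushStable

open Groth.Agent.Lib Modules.StalkModule TensorMod.Basic ShStab.SubLattice ShStab.Interval StabCat

variable {k : Type u} [Field k] {X : Scheme.{u}} [X.Over (Spec (CommRingCat.of k))] [IsIntegral X]
  [IsProper (X ↘ Spec (CommRingCat.of k))] [QuasiCompact (X.fromSpecStalk (genericPoint X))]
  [QuasiSeparated (X.fromSpecStalk (genericPoint X))]
  [(Curv2.normalization X).Over (Spec (CommRingCat.of k))]

variable (hov : (Curv2.normalizationι X) ≫ (X ↘ Spec (CommRingCat.of k)) = (Curv2.normalization X) ↘ Spec (CommRingCat.of k))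
  [IsFinite (Curv2.normalizationι X)]

include hov

/-- The normalization is proper. -/
theorem isProper_normalization : IsProper ((Curv2.normalization X) ↘ Spec (CommRingCat.of k)) := by
  rw [← hov]; infer_instance

/-- Hilbert polynomials of direct images. -/
theorem hp_push {L : X.Modules} (hL : CohB1.IsAmple L) (hL' : CohB1.IsAmple ((Scheme.Modules.pullback (Curv2.normalizationι X)).obj L))
    {H : ((Curv2.normalization X)).Modules} (hH : Coh.IsCoh H) :
    hp k L ((Scheme.Modules.pushforward (Curv2.normalizationι X)).obj H) = hp k ((Scheme.Modules.pullback (Curv2.normalizationι X)).obj L) H := by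
  haveI := isProper_normalization hov
  haveI := Curves.GlobalSections.isNoetherian_of_proper k ((Curv2.normalization X))
  haveI := Curves.GlobalSections.isNoetherian_of_proper k X
  refine hp_eq k L fun m => ?_
  rw [← isHilbPoly_hp k hL' hH m]
  refine congrArg (fun z : ℤ => (z : ℚ)) ?_
  have hLi := (Ample.Pow.isAmple_iff.1 hL).1
  have hLm : PicF.IsInvertible (CohB1.tensorPow L m) := TensorMod.Invertible.isInvertible_tensorPow hLi m
  let P := (Scheme.Modules.pullback (Curv2.normalizationι X)).obj (CohB1.tensorPow L m)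
  have hP : Coh.IsCoh P :=
    Ample.GG.isCoh_of_isInvertible (PicLoc.isInvertible_pullback (Curv2.normalizationι X) hLm)
  have hc : Coh.IsCoh (CohB1.tensorMod H P) := ProjCoh.Coherent.isCoh_tensorMod hH hP
  haveI := hc.1
  let e : CohB1.tensorMod ((Scheme.Modules.pushforward (Curv2.normalizationι X)).obj H) (CohB1.tensorPow L m) ≅ (Scheme.Modules.pushforward (Curv2.normalizationι X)).obj (CohB1.tensorMod H P) :=
    comm _ _ ≪≫ (Modules.ProjFormula.projIso (Curv2.normalizationι X) (E := CohB1.tensorPow L m)
      (Modules.DualBasis.hasDBases_of_isFinLocFree (TensorMod.LocFree.of_rank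
        (TensorMod.LocFree.of_isInvertible hLm)))).app H ≪≫ (Scheme.Modules.pushforward (Curv2.normalizationι X)).mapIso (comm _ _)
  have h1 : Curv2.euler k X ((Coh.push (Curv2.normalizationι X)).obj (CohB1.tensorMod H P)) =
      Curv2.euler k ((Curv2.normalization X)) (CohB1.tensorMod H P) := SurfInt.Push.euler_push (Curv2.normalizationι X) hov _
  obtain ⟨d, hd⟩ := Snapper.DimBound.exists_dim_bound k X
  obtain ⟨d', hd'⟩ := Snapper.DimBound.exists_dim_bound k ((Curv2.normalization X))
  have h2 : Curv2.euler k X (CohB1.tensorMod ((Scheme.Modules.pushforward (Curv2.normalizationι X)).obj H) (CohB1.tensorPow L m)) =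
      Curv2.euler k X ((Scheme.Modules.pushforward (Curv2.normalizationι X)).obj (CohB1.tensorMod H P)) := by
    rw [Snapper.Chi.euler_eq_eulerCharLE hd, Snapper.Chi.euler_eq_eulerCharLE hd]
    exact Snapper.Chi.eulerCharLE_of_iso e d
  have h3 : Curv2.euler k ((Curv2.normalization X)) (CohB1.tensorMod H P) =
      Curv2.euler k ((Curv2.normalization X)) (_root_.ShStab.twist ((Curv2.normalization X)) ((Scheme.Modules.pullback (Curv2.normalizationι X)).obj L) H m) := by
    rw [Snapper.Chi.euler_eq_eulerCharLE hd', Snapper.Chi.euler_eq_eulerCharLE hd']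
    exact Snapper.Chi.eulerCharLE_of_iso (tensorIso (Iso.refl H) (Ample.Pow.pullbackPow (Curv2.normalizationι X) L m)) d'
  exact h2.trans (h1.trans h3)

variable (hdim : topologicalKrullDim X = 1) {L : X.Modules} (hL : CohB1.IsAmple L)

include hdim hL

omit hov [(Curv2.normalization X).Over (Spec (CommRingCat.of k))] [X.Over (Spec (CommRingCat.of k))]
  [IsProper (X ↘ Spec (CommRingCat.of k))] in
theorem dim_normalization : topologicalKrullDim ((Curv2.normalization X)) = 1 :=
  (AffineCompl.Dim.topologicalKrullDim_of_finite_surjective (Curv2.normalizationι X)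
    (Normalization.Basic.surjective_normalizationι X)).trans hdim

omit hov [(Curv2.normalization X).Over (Spec (CommRingCat.of k))] [X.Over (Spec (CommRingCat.of k))]
  [IsProper (X ↘ Spec (CommRingCat.of k))] hdim in
theorem isAmple_pullback : CohB1.IsAmple ((Scheme.Modules.pullback (Curv2.normalizationι X)).obj L) :=
  Ample.Pullback.isAmple_pullback (Curv2.normalizationι X) (Ample.Pullback.isQuasiAffine_of_isAffineHom (Curv2.normalizationι X)) hL

/-- A submodule of a direct image generates a submodule, with finite colength. -/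
theorem exists_saturation {E : ((Curv2.normalization X)).Modules} (hE : Coh.IsCoh E) (hEt : TorSh.IsTorsionFree E)
    {G : X.Modules} (j : G ⟶ (Scheme.Modules.pushforward (Curv2.normalizationι X)).obj E) [Mono j] (hG : Coh.IsCoh G) :
    ∃ (H : ((Curv2.normalization X)).Modules) (ι : H ⟶ E) (q : ℚ), Mono ι ∧ Coh.IsCoh H ∧ 0 ≤ q ∧
      hp k ((Scheme.Modules.pullback (Curv2.normalizationι X)).obj L) H = hp k L G + Polynomial.C q ∧
      (IsIso ι → ¬ IsIso j → 0 < q) ∧ (IsZero H → IsZero G) := by
  haveI := isProper_normalization hov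
  haveI := Curves.GlobalSections.isNoetherian_of_proper k ((Curv2.normalization X))
  haveI := Curves.GlobalSections.isNoetherian_of_proper k X
  let adj := Scheme.Modules.pullbackPushforwardAdjunction (Curv2.normalizationι X)
  let φ := (adj.homEquiv G E).symm j
  let H := Abelian.image φ
  let q₀ := Abelian.factorThruImage φ
  let κ : G ⟶ (Scheme.Modules.pushforward (Curv2.normalizationι X)).obj H := adj.homEquiv G H q₀
  have hκ : κ ≫ (Scheme.Modules.pushforward (Curv2.normalizationι X)).map (Abelian.image.ι φ) = j := by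
    rw [← adj.homEquiv_naturality_right, Abelian.image.fac, Equiv.apply_symm_apply]
  haveI : Mono (κ ≫ (Scheme.Modules.pushforward (Curv2.normalizationι X)).map (Abelian.image.ι φ)) := by rw [hκ]; infer_instance
  haveI hκm : Mono κ := mono_of_mono κ ((Scheme.Modules.pushforward (Curv2.normalizationι X)).map (Abelian.image.ι φ))
  haveI := hE.1
  have hH : Coh.IsCoh H :=
    CohBasics.Closure.isCoh_image φ (Cyc.FP.Stalk.isCoh_pullback (Curv2.normalizationι X) hG).1 hE
  haveI := hH.1
  have hHt : TorSh.IsTorsionFree H := CurveBundle.Rank.isTorsionFree_of_mono (Abelian.image.ι φ) hEt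
  have hpH : Coh.IsCoh ((Scheme.Modules.pushforward (Curv2.normalizationι X)).obj H) := CohDelta.IdealMul.FinPush.isCoh_push (Curv2.normalizationι X) hH
  have hC : Coh.IsCoh (cokernel κ) := CohBasics.Closure.isCoh_cokernel κ hG.1 hpH
  -- the cokernel vanishes generically
  have hgen : ∀ x : X, x = (Curv2.normalizationι X) (genericPoint ((Curv2.normalization X))) → Subsingleton ((cokernel κ).presheaf.stalk x) := by
    rintro x rfl
    refine Lattice.subsingleton_stalk_cokernel κ _ fun z => ?_
    obtain ⟨t, ht⟩ := (epi_iff_stalkMapₗ_surjective q₀).1 inferInstance (genericPoint ((Curv2.normalization X)))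
      (DerivedOX.PullbackStalk.pushStalkMap (Curv2.normalizationι X) (genericPoint ((Curv2.normalization X))) H z)
    obtain ⟨a, ha⟩ := (PushGeneric.bijective_unitStalk X G).2 t
    refine ⟨a, PushGeneric.injective_pushStalkMap X hHt ?_⟩
    refine Eq.trans ?_ ((congrArg (stalkMapₗ q₀ (genericPoint ((Curv2.normalization X)))) ha).trans ht)
    refine Eq.trans ?_ (DerivedOX.PullbackStalk.pushStalkMap_natural (Curv2.normalizationι X) (genericPoint ((Curv2.normalization X))) q₀ _)
    refine congrArg (DerivedOX.PullbackStalk.pushStalkMap (Curv2.normalizationι X) (genericPoint ((Curv2.normalization X))) H) ?_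
    exact (LinearMap.congr_fun (congrArg (fun f => stalkMapₗ f _)
      (adj.homEquiv_unit G H q₀)) a).trans (LinearMap.congr_fun (stalkMapₗ_comp _ _ _) a)
  have hη : genericPoint X ∉ CohB1.support (cokernel κ) := fun h =>
    h (hgen _ (PushGeneric.genericPoint_map X).symm)
  obtain ⟨Q, hQ⟩ : ∃ Q, hp k L (cokernel κ) = Q := ⟨_, rfl⟩
  have hQdeg : Q.natDegree = 0 ∧ 0 ≤ Q.coeff 0 ∧ (¬ IsZero (cokernel κ) → 0 < Q.coeff 0) := by
    by_cases hz : IsZero (cokernel κ)
    · rw [← hQ, hp_isZero k hL hz]; simp [hz]
    haveI := hC.2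
    have hfin : (CohB1.support (cokernel κ)).Finite :=
      SmoothCurve.Curve.finite_of_isClosed hdim (Modules.Support.isClosed_support _) hη
    haveI : Finite ↥(CohB1.support (cokernel κ)) := hfin.to_subtype
    haveI : T1Space ↥(CohB1.support (cokernel κ)) := ⟨fun y => by
      have h := (SmoothCurve.Curve.eq_genericPoint_or_isClosed hdim y.1).resolve_left
        fun e => hη (e ▸ y.2)
      convert h.preimage continuous_subtype_val using 1
      ext z
      simp [Subtype.ext_iff]⟩
    have hdd : topologicalKrullDim ↥(CohB1.support (cokernel κ)) ≤ (0 : ℕ) := by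
      exact_mod_cast topologicalKrullDim_zero_of_discreteTopology ↥(CohB1.support (cokernel κ))
    have h := dim_eq (k := k) hL hC hz
    rw [h, hQ] at hdd
    have hd0 : Q.natDegree = 0 := by
      have : Q.natDegree ≤ 0 := by exact_mod_cast hdd
      omega
    have hlc := lc_pos (k := k) hL hC hz
    rw [hQ, Polynomial.leadingCoeff, hd0] at hlc
    exact ⟨hd0, hlc.le, fun _ => hlc⟩
  refine ⟨H, Abelian.image.ι φ, Q.coeff 0, inferInstance, hH, hQdeg.2.1, ?_, fun hi hj => ?_,
    fun hz => ?_⟩
  · have hC' := hp_cokernel k hL κ hG hpH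
    rw [hQ, hp_push hov hL (isAmple_pullback hL) hH] at hC'
    rw [← Polynomial.eq_C_of_natDegree_eq_zero hQdeg.1, hC']
    ring
  · refine hQdeg.2.2 fun hz => hj ?_
    haveI : Epi κ := Abelian.epi_of_cokernel_π_eq_zero κ (hz.eq_of_tgt _ _)
    haveI : IsIso κ := isIso_of_mono_of_epi κ
    rw [← hκ]
    infer_instance
  · exact IsZero.of_mono κ ((Scheme.Modules.pushforward (Curv2.normalizationι X)).map_isZero hz)

/-- Purity of the module and of its direct image. -/
theorem isPure_both {E : ((Curv2.normalization X)).Modules} (hEt : TorSh.IsTorsionFree E) :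
    _root_.ShStab.IsPure ((Curv2.normalization X)) E 1 ∧ _root_.ShStab.IsPure X ((Scheme.Modules.pushforward (Curv2.normalizationι X)).obj E) 1 := by
  haveI : IsDominant (Curv2.normalizationι X) := ⟨(Normalization.Basic.surjective_normalizationι X).denseRange⟩
  exact ⟨ShStab.MuBasics.isPure_of_isTorsionFree hEt 1
      (by exact_mod_cast dim_normalization hdim hL),
    ShStab.MuBasics.isPure_of_isTorsionFree
      (Groth.Agent.H93.TorFree.isTorsionFree_pushforward (Curv2.normalizationι X) E hEt) 1 (by exact_mod_cast hdim)⟩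

omit hov [(Curv2.normalization X).Over (Spec (CommRingCat.of k))] [X.Over (Spec (CommRingCat.of k))]
  [IsProper (X ↘ Spec (CommRingCat.of k))] hdim hL in
theorem isZero_iff_push {E : ((Curv2.normalization X)).Modules} [E.IsQuasicoherent] : IsZero ((Scheme.Modules.pushforward (Curv2.normalizationι X)).obj E) ↔ IsZero E := by
  refine ⟨fun h => (IsZero.iff_id_eq_zero E).2 (PushGeneric.map_injective X _ _ ?_),
    fun h => (Scheme.Modules.pushforward (Curv2.normalizationι X)).map_isZero h⟩
  exact h.eq_of_src _ _

omit hov [(Curv2.normalization X).Over (Spec (CommRingCat.of k))] [X.Over (Spec (CommRingCat.of k))]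
  [IsProper (X ↘ Spec (CommRingCat.of k))] hdim hL in
theorem isIso_of_isIso_push {E F : ((Curv2.normalization X)).Modules} [E.IsQuasicoherent] [F.IsQuasicoherent]
    (hE : TorSh.IsTorsionFree E) (hF : TorSh.IsTorsionFree F) (f : E ⟶ F)
    (h : IsIso ((Scheme.Modules.pushforward (Curv2.normalizationι X)).map f)) : IsIso f := by
  obtain ⟨θ, hθ⟩ := PushGeneric.exists_map_eq X hF hE (inv ((Scheme.Modules.pushforward (Curv2.normalizationι X)).map f))
  exact ⟨θ, PushGeneric.map_injective X _ _ (by rw [Functor.map_comp, hθ, IsIso.hom_inv_id,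
      CategoryTheory.Functor.map_id]),
    PushGeneric.map_injective X _ _ (by rw [Functor.map_comp, hθ, IsIso.inv_hom_id,
      CategoryTheory.Functor.map_id])⟩

/-- Semistability descends and ascends along the normalization. -/
theorem isSemistable_iff {E : ((Curv2.normalization X)).Modules} (hE : Coh.IsCoh E) (hEt : TorSh.IsTorsionFree E) :
    _root_.ShStab.IsSemistable k ((Curv2.normalization X)) ((Scheme.Modules.pullback (Curv2.normalizationι X)).obj L) E 1 ↔
      _root_.ShStab.IsSemistable k X L ((Scheme.Modules.pushforward (Curv2.normalizationι X)).obj E) 1 := by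
  haveI := isProper_normalization hov
  haveI := Curves.GlobalSections.isNoetherian_of_proper k ((Curv2.normalization X))
  haveI := Curves.GlobalSections.isNoetherian_of_proper k X
  haveI := hE.1
  have hL' := isAmple_pullback hL
  have hpE : Coh.IsCoh ((Scheme.Modules.pushforward (Curv2.normalizationι X)).obj E) := CohDelta.IdealMul.FinPush.isCoh_push (Curv2.normalizationι X) hE
  obtain ⟨hpu, hpu'⟩ := isPure_both hov hdim hL hEt
  have hPE := hp_push hov hL hL' hE
  constructor
  · rintro ⟨-, h0, -, hss⟩
    refine ⟨hpE, fun h => h0 (isZero_iff_push.1 h), hpu', fun G j hj hG hG0 hji pG pE hpG hpEp => ?_⟩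
    haveI := hj
    obtain ⟨H, ι, q, hι, hH, hq, hPH, -, hH0⟩ := exists_saturation hov hdim hL hE hEt j hG
    have hle : RedLE 1 (hp k ((Scheme.Modules.pullback (Curv2.normalizationι X)).obj L) H) (hp k ((Scheme.Modules.pullback (Curv2.normalizationι X)).obj L) E) := by
      by_cases hi : IsIso ι
      · haveI := hi
        rw [hp_iso k hL' (asIso ι) hH]
        exact ShStab.PolyOrder.redLE_refl _ _
      · exact hss H ι hι hH (fun h => hG0 (hH0 h)) hi _ _ (isHilbPoly_hp k hL' hH)
          (isHilbPoly_hp k hL' hE)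
    rw [← hp_eq k L hpG, ← hp_eq k L hpEp, hPE]
    obtain ⟨N, hN⟩ := hle
    refine ⟨N, fun m hm => ?_⟩
    have hα : 0 < alpha 1 (hp k ((Scheme.Modules.pullback (Curv2.normalizationι X)).obj L) E) :=
      ShStab.Basics.alpha_pos_of_pure (k := k) hL' hpu (𝟙 E) hE h0
    have h := hN m hm
    rw [hPH] at h
    simp only [Polynomial.eval_smul, smul_eq_mul, alpha, Polynomial.coeff_add, Polynomial.coeff_C,
      one_ne_zero, if_false, add_zero, Polynomial.eval_add, Polynomial.eval_C] at h ⊢
    simp only [alpha] at hα
    nlinarith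
  · rintro ⟨-, h0, -, hss⟩
    refine ⟨hE, fun h => h0 (isZero_iff_push.2 h), hpu, fun H ι hι hH hH0 hi pH pE hpH hpEp => ?_⟩
    haveI := hι
    haveI := hH.1
    rw [← hp_eq k _ hpH, ← hp_eq k _ hpEp, ← hPE, ← hp_push hov hL hL' hH]
    exact hss _ ((Scheme.Modules.pushforward (Curv2.normalizationι X)).map ι) inferInstance (CohDelta.IdealMul.FinPush.isCoh_push (Curv2.normalizationι X) hH)
      (fun h => hH0 (isZero_iff_push.1 h))
      (fun h => hi (isIso_of_isIso_push (CurveBundle.Rank.isTorsionFree_of_mono ι hEt) hEt ι h))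
      _ _ (isHilbPoly_hp k hL (CohDelta.IdealMul.FinPush.isCoh_push (Curv2.normalizationι X) hH)) (isHilbPoly_hp k hL hpE)

/-- Stability descends and ascends along the normalization. -/
theorem isStable_iff {E : ((Curv2.normalization X)).Modules} (hE : Coh.IsCoh E) (hEt : TorSh.IsTorsionFree E) :
    _root_.ShStab.IsStable k ((Curv2.normalization X)) ((Scheme.Modules.pullback (Curv2.normalizationι X)).obj L) E 1 ↔ _root_.ShStab.IsStable k X L ((Scheme.Modules.pushforward (Curv2.normalizationι X)).obj E) 1 := by
  haveI := isProper_normalization hov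
  haveI := Curves.GlobalSections.isNoetherian_of_proper k ((Curv2.normalization X))
  haveI := Curves.GlobalSections.isNoetherian_of_proper k X
  haveI := hE.1
  have hL' := isAmple_pullback hL
  have hpE : Coh.IsCoh ((Scheme.Modules.pushforward (Curv2.normalizationι X)).obj E) := CohDelta.IdealMul.FinPush.isCoh_push (Curv2.normalizationι X) hE
  obtain ⟨hpu, hpu'⟩ := isPure_both hov hdim hL hEt
  have hPE := hp_push hov hL hL' hE
  constructor
  · rintro ⟨-, h0, -, hst⟩
    refine ⟨hpE, fun h => h0 (isZero_iff_push.1 h), hpu', fun G j hj hG hG0 hji pG pE hpG hpEp => ?_⟩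
    haveI := hj
    obtain ⟨H, ι, q, hι, hH, hq, hPH, hpos, hH0⟩ := exists_saturation hov hdim hL hE hEt j hG
    rw [← hp_eq k L hpG, ← hp_eq k L hpEp, hPE]
    have hα : 0 < alpha 1 (hp k ((Scheme.Modules.pullback (Curv2.normalizationι X)).obj L) E) :=
      ShStab.Basics.alpha_pos_of_pure (k := k) hL' hpu (𝟙 E) hE h0
    simp only [alpha] at hα
    by_cases hi : IsIso ι
    · haveI := hi
      have hPH' : hp k ((Scheme.Modules.pullback (Curv2.normalizationι X)).obj L) E = hp k L G + Polynomial.C q :=
        (hp_iso k hL' (asIso ι) hH).trans hPH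
      have hq0 := hpos hi hji
      refine ⟨0, fun m _ => ?_⟩
      rw [hPH'] at hα ⊢
      simp only [Polynomial.eval_smul, smul_eq_mul, alpha, Polynomial.coeff_add, Polynomial.coeff_C,
        one_ne_zero, if_false, add_zero, Polynomial.eval_add, Polynomial.eval_C] at hα ⊢
      nlinarith
    · obtain ⟨N, hN⟩ := hst H ι hι hH (fun h => hG0 (hH0 h)) hi _ _ (isHilbPoly_hp k hL' hH)
        (isHilbPoly_hp k hL' hE)
      refine ⟨N, fun m hm => ?_⟩
      have h := hN m hm
      rw [hPH] at h
      simp only [Polynomial.eval_smul, smul_eq_mul, alpha, Polynomial.coeff_add, Polynomial.coeff_C,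
        one_ne_zero, if_false, add_zero, Polynomial.eval_add, Polynomial.eval_C] at h ⊢
      nlinarith
  · rintro ⟨-, h0, -, hst⟩
    refine ⟨hE, fun h => h0 (isZero_iff_push.2 h), hpu, fun H ι hι hH hH0 hi pH pE hpH hpEp => ?_⟩
    haveI := hι
    haveI := hH.1
    rw [← hp_eq k _ hpH, ← hp_eq k _ hpEp, ← hPE, ← hp_push hov hL hL' hH]
    exact hst _ ((Scheme.Modules.pushforward (Curv2.normalizationι X)).map ι) inferInstance (CohDelta.IdealMul.FinPush.isCoh_push (Curv2.normalizationι X) hH)
      (fun h => hH0 (isZero_iff_push.1 h))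
      (fun h => hi (isIso_of_isIso_push (CurveBundle.Rank.isTorsionFree_of_mono ι hEt) hEt ι h))
      _ _ (isHilbPoly_hp k hL (CohDelta.IdealMul.FinPush.isCoh_push (Curv2.normalizationι X) hH)) (isHilbPoly_hp k hL hpE)

end Groth.Agent.H84.TFCurve.PushStable
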